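import Mathlib
import Cfsg.Agent.H85.RelStr_m3
import Cfsg.Agent.H988.CopCyc.Sum
import Cfsg.Agent.H818.StrP.Own
import Cfsg.Agent.H818.StrP.Row_m3
import Cfsg.Agent.PreUniq.Cases
import Cfsg.Agent.StandardComponent.AltAut
import Cfsg.Agent.BpSpor.Row.Tits_m3
import Cfsg.Agent.OddHalf.Stmts_m3
import Cfsg.Agent.H568.RowAlt
import Cfsg.Agent.FastGrp
import Cfsg.Agent.Prune
set_option linter.all false

section
prune_inst 0x7f00000000000000000000000000000000000000000000000000000000000000000000000000000000000000000000000000000000000000000000000000000000000000000000000000000000000000003fffffffffffffffffffffffffffbeffbdffffffff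

-- part: H988/CopCyc/Spor
section
set_option linter.all false

/-!
# Coprime groups of automorphisms of known finite simple groups are cyclic

`cc_of_known` : if `K` is a known nonabelian finite simple group, every group of automorphisms of `K` of order prime
to `|K|` is cyclic. `oddInn_sporadic` : automorphisms of odd prime order of the sporadic groups are inner.
-/

set_option autoImplicit false

namespace Cfsg.Agent.H988.CopCyc.Main

open Cfsg Cfsg.Agent.H988.CopCyc Cfsg.Agent.BpSpor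

universe u

theorem oddInn_sporadic {K : Type u} [Group K] (h : IsSporadicGroup K) : Inn.OddInn K := by
  rcases h with h | h | h | h | h | h | h | h | h | h | h | h | h | h | h | h | h | h | h |
    h | h | h | h | h | h | h
  · exact Inn.m11 h
  · exact Inn.m12 h
  · exact Inn.m22 h
  · exact Inn.m23 h
  · exact Inn.m24 h
  · exact Inn.j1 h
  · exact Inn.j2 h
  · exact Inn.j3 h
  · exact Inn.j4 h
  · exact Inn.co1 h
  · exact Inn.co2 h
  · exact Inn.co3 h
  · exact Inn.mcl h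
  · exact Inn.hs h
  · exact Inn.suz h
  · exact Inn.he h
  · exact Inn.ru h
  · exact Inn.on h
  · exact Inn.ly h
  · exact Inn.fi22 h
  · exact Inn.fi23 h
  · exact Inn.fi24 h
  · exact Inn.hn h
  · exact Inn.th h
  · exact Inn.b h
  · exact Inn.m h

/-- Groups of automorphisms of a known nonabelian finite simple group of order prime to the order of the group are
cyclic. -/
theorem cc_of_known {K : Type u} [Group K] [Finite K] [IsSimpleGroup K] (hK : ¬ IsMulCommutative K)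
    (h : IsKnownSimple' K) : CC K :=
  Sum.cc_known hK h
    (fun h => Sum.cc_of_oddInn (Sum.two_dvd_card hK) (Inn.tits h))
    (fun h => Sum.cc_of_oddInn (Sum.two_dvd_card hK) (oddInn_sporadic h))

end Cfsg.Agent.H988.CopCyc.Main
end

-- part: H193/StrP/Main
section
set_option linter.all false
open scoped Cfsg.Agent.FastGrp

/-!
# S2120: assembly (helper193, hub H9)

`main` : S2120 from the four inputs

* `LieRow`   : `K` of Lie type in characteristic `r ≠ p`: `Row p K` (exception `PSL₃(4)`, `p = 3`);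
* `SporRow`  : `K` sporadic: `Row p K` (exceptions `M₁₁`, `McL`, `Fi₂₂`, `J₄`);
* `TitsRow`  : `K` the Tits group: `Row p K`, `p ≠ 5`;
* `FieldRow` : Sylow `p`-subgroups of `K` cyclic, `f ∈ X \ K` of order `p` (exceptions `PSL₂(8)`, `Sz(32)`).
-/

set_option autoImplicit false
set_option linter.unusedSectionVars false

namespace Cfsg.Agent.H193.StrP

open Cfsg Subgroup Cfsg.Agent.H818.StrP

universe u

/-- `PSL₃(4)` -/
def IsL34 (K : Type u) [Group K] : Prop :=
  ∃ (F : Type) (_ : Field F) (_ : Fintype F), Fintype.card F = 4 ∧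
    Nonempty (K ≃* Matrix.ProjectiveSpecialLinearGroup (Fin 3) F)

/-- `PSL₂(8)` -/
def IsL28 (K : Type u) [Group K] : Prop :=
  ∃ (F : Type) (_ : Field F) (_ : Fintype F), Fintype.card F = 8 ∧
    Nonempty (K ≃* Matrix.ProjectiveSpecialLinearGroup (Fin 2) F)

/-- `Sz(32)` -/
def IsSz32 (K : Type u) [Group K] : Prop :=
  ∃ (F : Type) (_ : Field F) (_ : Fintype F), Fintype.card F = 32 ∧ Nonempty (K ≃* ↥(Lie.Sz F 8))

/-- cross characteristic rows -/
def LieRow : Prop :=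
  ∀ (r p : ℕ) [Fact r.Prime] [Fact p.Prime], p ≠ 2 → p ≠ r → ∀ (K : Type u) [Group K] [Finite K],
    IsSimpleGroup K → ¬ IsMulCommutative K → IsLieTypeChar r K → Row p K ∨ (p = 3 ∧ IsL34 K)

/-- sporadic rows -/
def SporRow : Prop :=
  ∀ (p : ℕ) [Fact p.Prime], p ≠ 2 → ∀ (K : Type u) [Group K] [Finite K], IsSporadicGroup K →
    Row p K ∨ (p = 3 ∧ Spor.IsoM11 K) ∨ (p = 5 ∧ Spor.IsoMcL K) ∨ (p = 5 ∧ Spor.IsoFi22 K) ∨ (p = 11 ∧ Spor.IsoJ4 K)

/-- the Tits group -/
def TitsRow : Prop :=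
  ∀ (p : ℕ) [Fact p.Prime], p ≠ 2 → p ≠ 5 → ∀ (K : Type u) [Group K] [Finite K], Lie.IsoTits K → Row p K

/-- field automorphisms -/
def FieldRow : Prop :=
  ∀ (r p : ℕ) [Fact r.Prime] [Fact p.Prime], p ≠ 2 → p ≠ r → ∀ (X : Type u) [Group X] [Finite X] (K : Subgroup X),
    K.Normal → IsSimpleGroup ↥K → ¬ IsMulCommutative ↥K → centralizer (K : Set X) = ⊥ → IsLieTypeChar r ↥K →
    p ∣ Nat.card ↥K → (∀ P : Sylow p ↥K, IsCyclic ↥(P : Subgroup ↥K)) → ∀ f : X, f ∉ K → orderOf f = p →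
    NoSP p X ∨ (p = 3 ∧ IsL28 ↥K) ∨ (p = 5 ∧ IsSz32 ↥K)

section Tools

variable {X : Type u} [Group X] [Finite X] {p : ℕ} [hp : Fact p.Prime] {K : Subgroup X}

/-- a noncyclic Sylow `p`-subgroup of `X`, cyclic Sylow `p`-subgroups of `K`: there is `f ∈ X \ K` of order `p` -/
theorem exists_outer (hp2 : p ≠ 2) (hK : ∀ P : Sylow p ↥K, IsCyclic ↥(P : Subgroup ↥K))
    (hX : ¬ ∀ P : Sylow p X, IsCyclic ↥(P : Subgroup X)) : ∃ f : X, f ∉ K ∧ orderOf f = p := by
  push Not at hX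
  obtain ⟨P, hP⟩ := hX
  obtain ⟨A, -, hA, hA2⟩ := Cfsg.Agent.S0126.result hp2 P.2 hP
  by_contra hcon
  push Not at hcon
  -- `A ≤ K`
  have hAK : ∀ a : ↥(P : Subgroup X), a ∈ A → (a : X) ∈ K := by
    intro a ha
    by_contra haK
    apply hcon a haK
    have h1 : a ^ p = 1 := hA.2 a ha
    have h2 : a ≠ 1 := by
      rintro rfl
      exact haK K.one_mem
    rw [Subgroup.orderOf_coe]
    exact orderOf_eq_prime h1 h2
  let B : Subgroup ↥K := (A.map (P : Subgroup X).subtype).subgroupOf K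
  have hBle : A.map (P : Subgroup X).subtype ≤ K := by
    rintro _ ⟨a, ha, rfl⟩
    exact hAK a ha
  have hB : Nat.card ↥B = p ^ 2 := by
    rw [Nat.card_congr (Subgroup.subgroupOfEquivOfLe hBle).toEquiv,
      Subgroup.card_map_of_injective (Subgroup.subtype_injective _), hA2]
  have hBp : IsPGroup p ↥B := IsPGroup.of_card hB
  obtain ⟨Q, hQ⟩ := hBp.exists_le_sylow
  have hQc := hK Q
  have hBc : IsCyclic ↥B := by
    have h1 : IsCyclic ↥(B.subgroupOf (Q : Subgroup ↥K)) := inferInstance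
    exact (Subgroup.subgroupOfEquivOfLe hQ).isCyclic.1 h1
  -- exponent `p`
  have hexp : ∀ b : ↥B, b ^ p = 1 := by
    rintro ⟨⟨b, hbK⟩, hb⟩
    obtain ⟨a, ha, hab⟩ := hb
    have h1 : a ^ p = 1 := hA.2 a ha
    apply Subtype.ext
    apply Subtype.ext
    change b ^ p = 1
    have h2 : (a : X) = b := hab
    rw [← h2, ← Subgroup.coe_pow, h1, Subgroup.coe_one]
  obtain ⟨g, hg⟩ := hBc.exists_generator
  have h2 : orderOf g = Nat.card ↥B := orderOf_eq_card_of_forall_mem_zpowers hg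
  have h3 : orderOf g ∣ p := orderOf_dvd_of_pow_eq_one (hexp g)
  rw [h2, hB] at h3
  have h4 := Nat.le_of_dvd hp.out.pos h3
  have h5 := hp.out.one_lt
  nlinarith

/-- automorphisms of order `p` of `K` inner: the elements of order `p` of `X` lie in `K` -/
theorem mem_of_inner (hc : centralizer (K : Set X) = ⊥) [K.Normal] (hi : CpAut.AutInner p ↥K) {f : X}
    (hf : orderOf f = p) : f ∈ K := by
  have h0 : orderOf (MulAut.conjNormal (H := K) f) = p := by
    rw [← hf]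
    refine orderOf_injective (MulAut.conjNormal : X →* MulAut ↥K) ?_ f
    rw [injective_iff_map_eq_one]
    intro x hx
    have h1 : x ∈ centralizer (K : Set X) := by
      rw [mem_centralizer_iff]
      intro y hy
      have h2 := congrArg (fun φ : MulAut ↥K => ((φ ⟨y, hy⟩ : ↥K) : X)) hx
      have h3 : x * y * x⁻¹ = y := by
        have h4 := MulAut.conjNormal_apply (H := K) x ⟨y, hy⟩
        rw [← h4]
        exact h2
      rw [mul_inv_eq_iff_eq_mul] at h3
      exact h3.symm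
    rw [hc, mem_bot] at h1
    exact h1
  obtain ⟨g, hg⟩ := hi _ h0
  have h1 : (g : X)⁻¹ * f ∈ centralizer (K : Set X) := by
    rw [mem_centralizer_iff]
    intro y hy
    have h2 := congrArg (fun φ : MulAut ↥K => ((φ ⟨y, hy⟩ : ↥K) : X)) hg
    have h3 : f * y * f⁻¹ = g * y * (g : X)⁻¹ := by
      have h4 := MulAut.conjNormal_apply (H := K) f ⟨y, hy⟩
      rw [← h4]
      exact h2
    have h4 : f * y = g * y * (g : X)⁻¹ * f := by rw [← h3]; group
    calc y * ((g : X)⁻¹ * f) = (g : X)⁻¹ * (g * y * (g : X)⁻¹ * f) := by group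
      _ = (g : X)⁻¹ * (f * y) := by rw [← h4]
      _ = _ := by group
  rw [hc, mem_bot] at h1
  have h2 : f = g := by
    have := congrArg (fun z => (g : X) * z) h1
    simpa using this
  rw [h2]
  exact g.2

/-- `NoSP p K` gives `NoSP p X` -/
theorem noSP_up [K.Normal] (hK : p ∣ Nat.card ↥K) (h : NoSP p ↥K) : NoSP p X :=
  fun _ hM => h _ (reduce hM hK)

/-- `p ∤ |K|`, `K` known: the Sylow `p`-subgroups of `X` are cyclic -/
theorem cyclic_of_not_dvd [K.Normal] (hs : IsSimpleGroup ↥K) (hna : ¬ IsMulCommutative ↥K) (hkn : IsKnownSimple' ↥K)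
    (hc : centralizer (K : Set X) = ⊥) (hd : ¬ p ∣ Nat.card ↥K) (P : Sylow p X) : IsCyclic ↥(P : Subgroup X) := by
  have h1 := H988.CopCyc.Main.cc_of_known hna hkn
  have hinj : Function.Injective (MulAut.conjNormal : X →* MulAut ↥K) := by
    rw [injective_iff_map_eq_one]
    intro x hx
    have h1 : x ∈ centralizer (K : Set X) := by
      rw [mem_centralizer_iff]
      intro y hy
      have h2 := congrArg (fun φ : MulAut ↥K => ((φ ⟨y, hy⟩ : ↥K) : X)) hx
      have h3 : x * y * x⁻¹ = y := by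
        have h4 := MulAut.conjNormal_apply (H := K) x ⟨y, hy⟩
        rw [← h4]
        exact h2
      rw [mul_inv_eq_iff_eq_mul] at h3
      exact h3.symm
    rw [hc, mem_bot] at h1
    exact h1
  have h2 : IsCyclic ↥((P : Subgroup X).map (MulAut.conjNormal : X →* MulAut ↥K)) := by
    apply h1
    rw [Subgroup.card_map_of_injective hinj]
    obtain ⟨n, hn⟩ := IsPGroup.iff_card.1 P.2
    rw [hn]
    exact Nat.Coprime.pow_left n ((Nat.Prime.coprime_iff_not_dvd hp.out).2 hd)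
  exact ((P : Subgroup X).equivMapOfInjective _ hinj).isCyclic.2 h2

theorem cyclic_of_not_sq {Y : Type*} [Group Y] [Finite Y] (h : ¬ p ^ 2 ∣ Nat.card Y) (P : Sylow p Y) :
    IsCyclic ↥(P : Subgroup Y) := by
  obtain ⟨n, hn⟩ := IsPGroup.iff_card.1 P.2
  have h1 : n < 2 := by
    by_contra hcon
    exact h ((pow_dvd_pow p (not_lt.1 hcon)).trans (hn ▸ Subgroup.card_subgroup_dvd_card _))
  interval_cases n
  · have h2 : Nat.card ↥(P : Subgroup Y) = 1 := by rw [hn, pow_zero]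
    have : Subsingleton ↥(P : Subgroup Y) := (Nat.card_eq_one_iff_unique.1 h2).1
    infer_instance
  · exact isCyclic_of_prime_card (p := p) (by rw [hn, pow_one])

/-- cyclic Sylow `p`-subgroups and inner automorphisms -/
theorem cyclic_of_inner (hp2 : p ≠ 2) [K.Normal] (hc : centralizer (K : Set X) = ⊥)
    (hK : ∀ P : Sylow p ↥K, IsCyclic ↥(P : Subgroup ↥K)) (hi : CpAut.AutInner p ↥K) :
    ∀ P : Sylow p X, IsCyclic ↥(P : Subgroup X) := by
  by_contra hX
  obtain ⟨f, hf, hfo⟩ := exists_outer hp2 hK hX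
  exact hf (mem_of_inner hc hi hfo)

omit [Finite X] in
theorem not_sq_dvd_factorial {n : ℕ} (hn : n < 2 * p) : ¬ p ^ 2 ∣ n.factorial := by
  have key : ∀ k, k < p → ¬ p ^ 2 ∣ (p + k).factorial := by
    intro k
    induction k with
    | zero =>
      intro _ h
      obtain ⟨m, hm⟩ : ∃ m, p = m + 1 := ⟨p - 1, by have := hp.out.pos; omega⟩
      rw [Nat.add_zero, hm, Nat.factorial_succ, ← hm, pow_two] at h
      have h1 := Nat.dvd_of_mul_dvd_mul_left hp.out.pos h
      have h2 := (hp.out.dvd_factorial).1 h1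
      omega
    | succ k ih =>
      intro hk h
      rw [← Nat.add_assoc, Nat.factorial_succ] at h
      refine ih (by omega) ((Nat.Coprime.dvd_mul_left ?_).1 h)
      refine Nat.Coprime.pow_left 2 ((Nat.Prime.coprime_iff_not_dvd hp.out).2 ?_)
      intro h1
      have h2 : p ∣ k + 1 := (Nat.dvd_add_right (dvd_refl p)).1 (by rwa [Nat.add_assoc] at h1)
      have h3 := Nat.le_of_dvd (by omega) h2
      omega
  intro h
  by_cases hlt : n < p
  · have h1 : p ∣ n.factorial := (dvd_pow_self p two_ne_zero).trans h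
    have h2 := (hp.out.dvd_factorial).1 h1
    omega
  · obtain ⟨k, rfl⟩ : ∃ k, n = p + k := ⟨n - p, by omega⟩
    exact key k (by omega) h

end Tools

/-- automorphisms of odd prime order of the alternating groups are inner -/
theorem autInner_alt {n : ℕ} (hn : 5 ≤ n) {p : ℕ} (hp : p.Prime) (hp2 : p ≠ 2) :
    CpAut.AutInner p ↥(alternatingGroup (Fin n)) := by
  rcases Nat.lt_or_ge n 7 with h7 | h7
  · interval_cases n
    · exact H568.autInner_alt5 hp hp2
    · exact H568.autInner_alt6 hp hp2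
  · refine CpAut.autInner_of_sq hp hp2 fun α => ?_
    obtain ⟨k, rfl⟩ : ∃ k, n = k + 2 := ⟨n - 2, by omega⟩
    obtain ⟨σ, hσ⟩ := StandardComponent.AltAut.exists_conj (m := k) (by omega) α
    have h2 : σ * σ ∈ alternatingGroup (Fin (k + 2)) := by
      rw [Equiv.Perm.mem_alternatingGroup, map_mul]
      exact Int.units_mul_self _
    refine ⟨⟨σ * σ, h2⟩, ?_⟩
    apply MulEquiv.ext
    intro x
    apply Subtype.ext
    change _ = σ * σ * (x : Equiv.Perm (Fin (k + 2))) * (σ * σ)⁻¹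
    rw [MulAut.mul_apply, hσ, hσ]
    group

theorem card_alt (n : ℕ) (hn : 2 ≤ n) : 2 * Nat.card ↥(alternatingGroup (Fin n)) = n.factorial := by
  have : Nontrivial (Fin n) := Fin.nontrivial_iff_two_le.2 hn
  have h := nat_card_alternatingGroup (α := Fin n)
  rw [Nat.card_fin] at h
  rw [h]
  obtain ⟨k, hk⟩ : 2 ∣ n.factorial := Nat.dvd_factorial (by norm_num) hn
  rw [hk]
  omega

/-- **S2120 from its inputs.** -/
theorem main (hL : LieRow.{u}) (hS : SporRow.{u}) (hT : TitsRow.{u}) (hF : FieldRow.{u})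
    {X : Type u} [Group X] [Finite X] (K : Subgroup X) [K.Normal] (hs : IsSimpleGroup ↥K)
    (hna : ¬ IsMulCommutative ↥K) (hc : centralizer (K : Set X) = ⊥) (hK : IsKnownSimple' ↥K)
    (p : ℕ) [hp : Fact p.Prime] (hp2 : p ≠ 2) (H : Subgroup X) (hH : IsStronglyPEmbedded p H) :
    (∀ P : Sylow p X, IsCyclic ↥P) ∨
    (∃ (F : Type) (_ : Field F) (_ : Fintype F), CharP F p ∧
      Nonempty (↥K ≃* Matrix.ProjectiveSpecialLinearGroup (Fin 2) F)) ∨
    (∃ (F : Type) (_ : Field F) (_ : Fintype F) (n : ℕ), 1 ≤ n ∧ Fintype.card F = p ^ (2 * n) ∧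
      Nonempty (↥K ≃* Cfsg.PSU 3 F (p ^ n))) ∨
    (p = 3 ∧ Lie.IsoRee ↥K) ∨
    Nonempty (↥K ≃* ↥(alternatingGroup (Fin (2 * p)))) ∨
    (p = 3 ∧ (IsL34 ↥K ∨ IsL28 ↥K ∨ Cfsg.Spor.IsoM11 ↥K)) ∨
    (p = 5 ∧ (Cfsg.Lie.IsoTits ↥K ∨ IsSz32 ↥K ∨ Cfsg.Spor.IsoMcL ↥K ∨ Cfsg.Spor.IsoFi22 ↥K)) ∨
    (p = 11 ∧ Cfsg.Spor.IsoJ4 ↥K) := by
  by_cases hcX : ∀ P : Sylow p X, IsCyclic ↥(P : Subgroup X)
  · exact Or.inl hcX
  by_cases hd : p ∣ Nat.card ↥K
  swap
  · exact absurd (fun P => cyclic_of_not_dvd hs hna hK hc hd P) hcX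
  -- no row, no group
  have hno : ¬ NoSP p ↥K := fun h => noSP_up hd h H hH
  have hin : ∀ (_ : CpAut.AutInner p ↥K) (_ : ∀ P : Sylow p ↥K, IsCyclic ↥(P : Subgroup ↥K)), False :=
    fun hi hcy => hcX (cyclic_of_inner hp2 hc hcy hi)
  rcases Cfsg.Agent.PreUniq.known_cases hK with h | h | ⟨r, hr, h⟩ | h | h
  · -- prime order
    exfalso
    apply hna
    have h1 : Fact (Nat.card ↥K).Prime := ⟨h⟩
    have h2 : IsCyclic ↥K := isCyclic_of_prime_card (p := Nat.card ↥K) rfl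
    exact IsCyclic.isMulCommutative
  · -- alternating
    obtain ⟨n, hn, ⟨e⟩⟩ := h
    rcases lt_trichotomy n (2 * p) with h1 | h1 | h1
    · exfalso
      refine hin ((autInner_alt hn hp.out hp2).congr e.symm) fun P => cyclic_of_not_sq ?_ P
      intro h2
      apply not_sq_dvd_factorial h1
      rw [← card_alt n (by omega), ← Nat.card_congr e.toEquiv]
      exact h2.mul_left 2
    · subst h1
      exact Or.inr (Or.inr (Or.inr (Or.inr (Or.inl ⟨e⟩))))
    · exact absurd (noSP_congr e.symm (Alt.noSP_alt hp2 (by omega))) hno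
  · -- Lie type
    have hrf : Fact r.Prime := ⟨hr⟩
    by_cases hpr : p = r
    · subst hpr
      rcases Own.own hp2 h with h1 | h1 | h1 | h1
      · exact absurd h1 hno
      · exact Or.inr (Or.inl h1)
      · exact Or.inr (Or.inr (Or.inl h1))
      · exact Or.inr (Or.inr (Or.inr (Or.inl h1)))
    · rcases hL r p hp2 hpr ↥K hs hna h with (h1 | h1) | ⟨h1, h2⟩
      · obtain ⟨f, hf, hfo⟩ := exists_outer hp2 h1 hcX
        rcases hF r p hp2 hpr X K inferInstance hs hna hc h hd h1 f hf hfo with h2 | ⟨h2, h3⟩ | ⟨h2, h3⟩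
        · exact absurd hH (h2 H)
        · exact Or.inr (Or.inr (Or.inr (Or.inr (Or.inr (Or.inl ⟨h2, Or.inr (Or.inl h3)⟩)))))
        · exact Or.inr (Or.inr (Or.inr (Or.inr (Or.inr (Or.inr (Or.inl ⟨h2, Or.inr (Or.inl h3)⟩))))))
      · exact absurd h1 hno
      · exact Or.inr (Or.inr (Or.inr (Or.inr (Or.inr (Or.inl ⟨h1, Or.inl h2⟩)))))
  · -- Tits
    by_cases hp5 : p = 5
    · exact Or.inr (Or.inr (Or.inr (Or.inr (Or.inr (Or.inr (Or.inl ⟨hp5, Or.inl h⟩))))))
    · rcases hT p hp2 hp5 ↥K h with h1 | h1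
      · exact (hin (BpSpor.Inn.tits h p hp.out hp2) h1).elim
      · exact absurd h1 hno
  · -- sporadic
    rcases hS p hp2 ↥K h with (h1 | h1) | ⟨h1, h2⟩ | ⟨h1, h2⟩ | ⟨h1, h2⟩ | ⟨h1, h2⟩
    · exact (hin (H988.CopCyc.Main.oddInn_sporadic h p hp.out hp2) h1).elim
    · exact absurd h1 hno
    · exact Or.inr (Or.inr (Or.inr (Or.inr (Or.inr (Or.inl ⟨h1, Or.inr (Or.inr h2)⟩)))))
    · exact Or.inr (Or.inr (Or.inr (Or.inr (Or.inr (Or.inr (Or.inl ⟨h1, Or.inr (Or.inr (Or.inl h2))⟩))))))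
    · exact Or.inr (Or.inr (Or.inr (Or.inr (Or.inr (Or.inr (Or.inl ⟨h1, Or.inr (Or.inr (Or.inr h2))⟩))))))
    · exact Or.inr (Or.inr (Or.inr (Or.inr (Or.inr (Or.inr (Or.inr ⟨h1, h2⟩))))))

/-- **S2120 from its inputs**, the frozen form -/
theorem main' (hL : LieRow.{u}) (hS : SporRow.{u}) (hT : TitsRow.{u}) (hF : FieldRow.{u})
    {X : Type u} [Group X] [Finite X] (hs : IsSimpleGroup ↥(Cfsg.generalizedFittingSubgroup X))
    (hna : ¬ IsMulCommutative ↥(Cfsg.generalizedFittingSubgroup X))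
    (hK : Cfsg.IsKnownSimple' ↥(Cfsg.generalizedFittingSubgroup X)) (p : ℕ) [Fact p.Prime] (hp : p ≠ 2)
    (H : Subgroup X) (hH : Cfsg.IsStronglyPEmbedded p H) :
    (∀ P : Sylow p X, IsCyclic ↥P) ∨ (∃ (F : Type) (_ : Field F) (_ : Fintype F), CharP F p ∧ Nonempty (↥(Cfsg.generalizedFittingSubgroup X) ≃* Matrix.ProjectiveSpecialLinearGroup (Fin 2) F)) ∨ (∃ (F : Type) (_ : Field F) (_ : Fintype F) (n : ℕ), 1 ≤ n ∧ Fintype.card F = p ^ (2 * n) ∧ Nonempty (↥(Cfsg.generalizedFittingSubgroup X) ≃* Cfsg.PSU 3 F (p ^ n))) ∨ (∃ (K : Type) (_ : Field K) (_ : Fintype K) (m : ℕ), 1 ≤ m ∧ Fintype.card K = 3 ^ (2 * m + 1) ∧ Nonempty (↥(Cfsg.generalizedFittingSubgroup X) ≃* ↥(Cfsg.Lie.twistedG2 K (3 ^ m)))) ∨ Nonempty (↥(Cfsg.generalizedFittingSubgroup X) ≃* ↥(alternatingGroup (Fin (2 * p)))) ∨ (p = 3 ∧ ((∃ (F : Type) (_ : Field F) (_ : Fintype F), Fintype.card F = 4 ∧ Nonempty (↥(Cfsg.generalizedFittingSubgroup X) ≃* Matrix.ProjectiveSpecialLinearGroup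 (Fin 3) F)) ∨ (∃ (F : Type) (_ : Field F) (_ : Fintype F), Fintype.card F = 8 ∧ Nonempty (↥(Cfsg.generalizedFittingSubgroup X) ≃* Matrix.ProjectiveSpecialLinearGroup (Fin 2) F)) ∨ Cfsg.Spor.IsoM11 ↥(Cfsg.generalizedFittingSubgroup X))) ∨ (p = 5 ∧ (Cfsg.Lie.IsoTits ↥(Cfsg.generalizedFittingSubgroup X) ∨ (∃ (F : Type) (_ : Field F) (_ : Fintype F), Fintype.card F = 32 ∧ Nonempty (↥(Cfsg.generalizedFittingSubgroup X) ≃* ↥(Cfsg.Lie.Sz F 8))) ∨ Cfsg.Spor.IsoMcL ↥(Cfsg.generalizedFittingSubgroup X) ∨ Cfsg.Spor.IsoFi22 ↥(Cfsg.generalizedFittingSubgroup X))) ∨ (p = 11 ∧ Cfsg.Spor.IsoJ4 ↥(Cfsg.generalizedFittingSubgroup X)) := by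
  have hn : (generalizedFittingSubgroup X).Normal := Lib.GenFitting.genFitting_normal
  rcases main hL hS hT hF (generalizedFittingSubgroup X) hs hna (Cit.PieceEnd.centralizer_fstar hs hna) hK p hp H hH with
    h | h | h | h | h | h | h | h
  · exact Or.inl h
  · exact Or.inr (Or.inl h)
  · exact Or.inr (Or.inr (Or.inl h))
  · exact Or.inr (Or.inr (Or.inr (Or.inl h.2)))
  · exact Or.inr (Or.inr (Or.inr (Or.inr (Or.inl h))))
  · exact Or.inr (Or.inr (Or.inr (Or.inr (Or.inr (Or.inl h)))))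
  · exact Or.inr (Or.inr (Or.inr (Or.inr (Or.inr (Or.inr (Or.inl h))))))
  · exact Or.inr (Or.inr (Or.inr (Or.inr (Or.inr (Or.inr (Or.inr h))))))

end Cfsg.Agent.H193.StrP
end
end
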